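import Mathlib
import Cfsg.Agent.Lib.Helper65.Ami.T2K2

set_option autoImplicit false

/-!
# AMI (S4294), package [T2K1]

Index-2 case: an element `g ∉ S` centralizing the element `x` of order 5 of `S ≅ SL(2,5)` is
impossible.
-/

namespace Cfsg.Agent.Lib.Helper65.Ami

open Cfsg.Agent.Lib.Helper48.AmiTop

universe u

/-- [T2K1] -/
theorem pkgT2K1_of (hB : PkgMBasic) (h5 : PkgMF5) (h6 : PkgMF6) : PkgT2K1.{u} := by
  intro D _ _ H S e hSn hsq g hgS hgx
  have hzD := toD_z hB H S e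
  obtain ⟨hA2, hAX3, hX5, hX1, hm1, hm1sq, hK2, hAK⟩ := hB
  obtain ⟨x, hx⟩ : ∃ x : ↥S, x = e.symm mX := ⟨_, rfl⟩
  obtain ⟨a, ha⟩ : ∃ a : ↥S, a = e.symm mA := ⟨_, rfl⟩
  obtain ⟨z, hz⟩ : ∃ z : ↥S, z = e.symm (-1) := ⟨_, rfl⟩
  rw [← hx] at hgx
  rw [← hz] at hzD
  have hex : e x = mX := by rw [hx, e.apply_symm_apply]
  have hea : e a = mA := by rw [ha, e.apply_symm_apply]
  have hez : e z = -1 := by rw [hz, e.apply_symm_apply]
  -- `z` is central in `H`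
  have hzc : ∀ h : ↥H, h * (z : ↥H) = (z : ↥H) * h := by
    intro h
    apply toD_injective H
    rw [map_mul, map_mul, hzD, mul_neg, mul_one, neg_mul, one_mul]
  have hzz : (z : ↥H) * (z : ↥H) = 1 := by
    apply toD_injective H
    rw [map_mul, hzD, map_one, neg_mul_neg, one_mul]
  -- relations in `S`
  have haa : a * a = z := by
    apply e.injective
    rw [map_mul, hea, hez, hA2]
  have hax3 : (a⁻¹ * x) ^ 3 = z := by
    apply e.injective
    rw [map_pow, map_mul, map_inv, hea, hex, hez, hAX3]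
  -- the conjugate `a' = g a g⁻¹`
  obtain ⟨a', ha'⟩ : ∃ a' : ↥S, (a' : ↥H) = g * (a : ↥H) * g⁻¹ :=
    ⟨⟨g * a * g⁻¹, hSn.conj_mem a a.2 g⟩, rfl⟩
  have hconjz : g * (z : ↥H) * g⁻¹ = (z : ↥H) := by
    rw [hzc g]
    group
  have ha'2 : a' * a' = z := by
    apply Subtype.ext
    rw [Subgroup.coe_mul, ha']
    calc g * (a : ↥H) * g⁻¹ * (g * (a : ↥H) * g⁻¹) = g * ((a : ↥H) * (a : ↥H)) * g⁻¹ := by group
      _ = g * (z : ↥H) * g⁻¹ := by rw [← Subgroup.coe_mul, haa]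
      _ = (z : ↥H) := hconjz
  have ha'x3 : (a'⁻¹ * x) ^ 3 = z := by
    apply Subtype.ext
    rw [Subgroup.coe_pow, Subgroup.coe_mul, Subgroup.coe_inv, ha']
    have h1 : (g * (a : ↥H) * g⁻¹)⁻¹ * (x : ↥H) = g * ((a : ↥H)⁻¹ * (x : ↥H)) * g⁻¹ := by
      have h2 : g * (x : ↥H) * g⁻¹ = (x : ↥H) := by
        rw [hgx]
        group
      calc (g * (a : ↥H) * g⁻¹)⁻¹ * (x : ↥H)
          = (g * (a : ↥H) * g⁻¹)⁻¹ * (g * (x : ↥H) * g⁻¹) := by rw [h2]
        _ = g * ((a : ↥H)⁻¹ * (x : ↥H)) * g⁻¹ := by group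
    rw [h1, conj_pow, ← Subgroup.coe_inv, ← Subgroup.coe_mul, ← Subgroup.coe_pow, hax3]
    exact hconjz
  -- [MF5]
  have hN2 : e a' * e a' = -1 := by rw [← map_mul, ha'2, hez]
  have hN3 : ((e a')⁻¹ * mX) ^ 3 = -1 := by
    rw [← hex, ← map_inv, ← map_mul, ← map_pow, ha'x3, hez]
  obtain ⟨m, hm⟩ := h5 (e a') hN2 hN3
  have ha'm : a' = x ^ m * a * (x ^ m)⁻¹ := by
    apply e.injective
    rw [hm, map_mul, map_mul, map_inv, map_pow, hex, hea]
  -- `g3 = x^(-m) g` commutes with `a` and `x`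
  obtain ⟨g3, hg3⟩ : ∃ g3 : ↥H, g3 = ((x : ↥H) ^ m)⁻¹ * g := ⟨_, rfl⟩
  have hg3S : g3 ∉ S := by
    intro h
    apply hgS
    have h1 : g = (x : ↥H) ^ m * g3 := by
      rw [hg3]
      group
    rw [h1]
    exact S.mul_mem (S.pow_mem x.2 m) h
  have hg3x : g3 * (x : ↥H) = (x : ↥H) * g3 := by
    have hc : Commute ((x : ↥H) ^ m)⁻¹ (x : ↥H) :=
      ((Commute.refl (x : ↥H)).pow_left m).inv_left
    rw [hg3, mul_assoc, hgx, ← mul_assoc, hc.eq, mul_assoc]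
  have hg3a : g3 * (a : ↥H) = (a : ↥H) * g3 := by
    have h1 : g * (a : ↥H) * g⁻¹ = (x : ↥H) ^ m * (a : ↥H) * ((x : ↥H) ^ m)⁻¹ := by
      rw [← ha', ha'm, Subgroup.coe_mul, Subgroup.coe_mul, Subgroup.coe_inv, Subgroup.coe_pow]
    calc g3 * (a : ↥H) = ((x : ↥H) ^ m)⁻¹ * (g * (a : ↥H) * g⁻¹) * g := by
          rw [hg3]
          group
      _ = (a : ↥H) * g3 := by
          rw [h1, hg3]
          group
  -- `g3 * g3 ∈ S` is `1` or `z` by [MF6]
  obtain ⟨s, hs⟩ : ∃ s : ↥S, (s : ↥H) = g3 * g3 := ⟨⟨g3 * g3, hsq g3⟩, rfl⟩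
  have hsa : s * a = a * s := by
    apply Subtype.ext
    rw [Subgroup.coe_mul, Subgroup.coe_mul, hs, mul_assoc, hg3a, ← mul_assoc, hg3a, mul_assoc]
  have hsx : s * x = x * s := by
    apply Subtype.ext
    rw [Subgroup.coe_mul, Subgroup.coe_mul, hs, mul_assoc, hg3x, ← mul_assoc, hg3x, mul_assoc]
  have h6' := h6 (e s) (by rw [← hea, ← map_mul, ← map_mul, hsa])
    (by rw [← hex, ← map_mul, ← map_mul, hsx])
  -- involutions of `H` lie in `S`
  have hinvol : ∀ u : ↥H, u * u = 1 → u ∈ S := by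
    intro u hu
    have h1 : toD H u * toD H u = 1 := by rw [← map_mul, hu, map_one]
    rcases sq_eq_one_D h1 with h | h
    · have h2 : u = 1 := toD_injective H (by rw [h, map_one])
      rw [h2]
      exact S.one_mem
    · have h2 : u = (z : ↥H) := toD_injective H (by rw [h, hzD])
      rw [h2]
      exact z.2
  rcases h6' with h1 | h1
  · have hs1 : s = 1 := by
      apply e.injective
      rw [h1, map_one]
    apply hg3S
    apply hinvol
    rw [← hs, hs1, Subgroup.coe_one]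
  · have hsz : s = z := by
      apply e.injective
      rw [h1, hez]
    apply hg3S
    have h2 : (g3 * (a : ↥H)) * (g3 * (a : ↥H)) = 1 := by
      calc (g3 * (a : ↥H)) * (g3 * (a : ↥H)) = g3 * ((a : ↥H) * g3) * (a : ↥H) := by group
        _ = g3 * (g3 * (a : ↥H)) * (a : ↥H) := by rw [hg3a]
        _ = (g3 * g3) * ((a : ↥H) * (a : ↥H)) := by group
        _ = (z : ↥H) * (z : ↥H) := by
          have haaH : (a : ↥H) * (a : ↥H) = (z : ↥H) := by rw [← Subgroup.coe_mul, haa]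
          rw [← hs, hsz, haaH]
        _ = 1 := hzz
    have h3 := hinvol _ h2
    have h4 : g3 = (g3 * (a : ↥H)) * (a : ↥H)⁻¹ := by group
    rw [h4]
    exact S.mul_mem h3 (S.inv_mem a.2)

example (hB : PkgMBasic) (h5 : PkgMF5) (h6 : PkgMF6) : PkgT2K1.{0} := pkgT2K1_of hB h5 h6
example (hB : PkgMBasic) (h5 : PkgMF5) (h6 : PkgMF6) : PkgT2K1.{3} := pkgT2K1_of hB h5 h6

end Cfsg.Agent.Lib.Helper65.Ami
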